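import Groth.Agent.H1CAlg.Serre
import Groth.Agent.H22Alg.FlatSurj
import Mathlib

/-! Flat closed subschemes with prescribed generic fibre (EGA IV 2.8.5). -/

set_option autoImplicit false
set_option backward.isDefEq.respectTransparency false
set_option linter.style.haveILetI false
universe u
open CategoryTheory CategoryTheory.Limits AlgebraicGeometry TopologicalSpace Opposite

namespace Groth.Agent.H06FlatSub

theorem isDVR_of_regular {A : Type u} [CommRing A] [IsRegularLocalRing A] (hd : ringKrullDim A ≤ 1)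
    (hA : ¬ IsField A) :
    haveI := H4Depth.isDomain_of_isRegularLocalRing A
    IsDiscreteValuationRing A := by
  haveI := H4Depth.isDomain_of_isRegularLocalRing A
  haveI hp : (IsLocalRing.maximalIdeal A).IsPrincipal := by
    rw [← IsRegularLocalRing.spanFinrank_maximalIdeal] at hd
    obtain ⟨g, hg⟩ := H4Depth.exists_fun_fin_span_eq (I := IsLocalRing.maximalIdeal A)
    generalize (IsLocalRing.maximalIdeal A).spanFinrank = n at g hg hd
    norm_cast at hd
    interval_cases n
    · exact ⟨0, by rw [← hg]; simp [Set.range_eq_empty]⟩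
    · exact ⟨g 0, by rw [← hg, Ideal.submodule_span_eq, Set.range_unique]; rfl⟩
  exact ((IsDiscreteValuationRing.TFAE A hA).out 0 4).2 hp

theorem isDedekindDomain_sections {Y : Scheme.{u}} [IsIntegral Y] [IsLocallyNoetherian Y]
    (hY : ∀ y : Y, IsRegularLocalRing (Y.presheaf.stalk y) ∧ ringKrullDim (Y.presheaf.stalk y) ≤ 1)
    {V : Y.Opens} (hV : IsAffineOpen V) [Nonempty V] : IsDedekindDomain Γ(Y, V) := by
  haveI : IsNoetherianRing Γ(Y, V) := IsLocallyNoetherian.component_noetherian ⟨V, hV⟩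
  haveI : IsDedekindDomainDvr Γ(Y, V) := by
    refine { is_dvr_at_nonzero_prime := fun P hP hPp => ?_ }
    haveI := hPp
    let y := hV.fromSpec ⟨P, hPp⟩
    have hy : y ∈ V := hV.range_fromSpec.le ⟨⟨P, hPp⟩, rfl⟩
    letI := (Y.presheaf.germ V y hy).hom.toAlgebra
    haveI : IsLocalization.AtPrime (Y.presheaf.stalk y) P := hV.isLocalization_stalk' ⟨P, hPp⟩ hy
    let e := (IsLocalization.algEquiv P.primeCompl (Y.presheaf.stalk y) (Localization.AtPrime P)).toRingEquiv
    haveI := (hY y).1
    haveI : IsRegularLocalRing (Localization.AtPrime P) := IsRegularLocalRing.of_ringEquiv e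
    refine isDVR_of_regular (ringKrullDim_eq_of_ringEquiv e ▸ (hY y).2) fun hF => ?_
    have h0 : IsLocalRing.maximalIdeal (Localization.AtPrime P) = ⊥ := IsLocalRing.isField_iff_maximalIdeal_eq.1 hF
    obtain ⟨x, hx, hx0⟩ := Submodule.exists_mem_ne_zero_of_ne_bot hP
    apply hx0
    apply IsLocalization.injective (Localization.AtPrime P) P.primeCompl_le_nonZeroDivisors
    rw [map_zero, ← Ideal.mem_bot, ← h0]
    exact (IsLocalization.AtPrime.to_map_mem_maximal_iff (Localization.AtPrime P) P x).2 hx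
  infer_instance

section GenericPoint

variable (Y : Scheme.{u}) [IsIntegral Y]

theorem flat_fromSpecResidueField_genericPoint :
    Flat (Y.fromSpecResidueField (genericPoint Y)) := by
  haveI : IsField (Y.presheaf.stalk (genericPoint Y)) := Field.toIsField Y.functionField
  have h : Function.Bijective (Y.residue (genericPoint Y)).hom := by
    letI : Field (Y.presheaf.stalk (genericPoint Y)) := this.toField
    exact ⟨RingHom.injective _, Y.residue_surjective _⟩
  haveI : IsIso (Y.residue (genericPoint Y)) := (ConcreteCategory.isIso_iff_bijective _).2 h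
  haveI : Flat (Y.fromSpecStalk (genericPoint Y)) := H22Alg.flat_fromSpecStalk Y _
  unfold Scheme.fromSpecResidueField
  infer_instance

theorem isAffineHom_fromSpecResidueField_genericPoint :
    IsAffineHom (Y.fromSpecResidueField (genericPoint Y)) := by
  refine ⟨fun U _ => ?_⟩
  by_cases h : genericPoint Y ∈ U
  · have e : Y.fromSpecResidueField (genericPoint Y) ⁻¹ᵁ U = ⊤ :=
      top_le_iff.1 fun x _ => by simpa using h
    rw [e]
    exact isAffineOpen_top _
  · have e : Y.fromSpecResidueField (genericPoint Y) ⁻¹ᵁ U = ⊥ :=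
      le_bot_iff.1 fun x hx => (h (by simpa using hx)).elim
    rw [e]
    exact isAffineOpen_bot _

theorem std_fromSpecResidueField_genericPoint :
    IsSchemeTheoreticallyDominant (Y.fromSpecResidueField (genericPoint Y)) := by
  haveI : IsDominant (Y.fromSpecResidueField (genericPoint Y)) := by
    rw [isDominant_iff, DenseRange, Scheme.range_fromSpecResidueField,
      dense_iff_closure_eq, genericPoint_closure]
  exact .of_isDominant _

end GenericPoint

theorem std_toImage {X Y : Scheme.{u}} (f : X ⟶ Y) [QuasiCompact f] :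
    IsSchemeTheoreticallyDominant f.toImage := by
  rw [isSchemeTheoreticallyDominant_iff]
  refine Scheme.IdealSheafData.ext_of_iSup_eq_top
    (fun U : Y.affineOpens => ⟨f.imageι ⁻¹ᵁ U.1, U.2.preimage _⟩) ?_ ?_
  · simp only [← Scheme.Hom.preimage_iSup, iSup_affineOpens_eq_top, Scheme.Hom.preimage_top]
  · intro U
    rw [Scheme.Hom.ker_apply]
    rw [(RingHom.injective_iff_ker_eq_bot _).1 (f.toImage_app_injective U)]
    simp

theorem flat_of_std_genericFibre {Y Z Z' : Scheme.{u}} [IsIntegral Y] [IsLocallyNoetherian Y]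
    (hY : ∀ y : Y, IsRegularLocalRing (Y.presheaf.stalk y) ∧ ringKrullDim (Y.presheaf.stalk y) ≤ 1)
    (g : Z ⟶ Y) (w : Z' ⟶ Z) [IsSchemeTheoreticallyDominant w] [QuasiCompact w]
    (hw : ∀ x, g (w x) = genericPoint Y) : Flat g := by
  rw [HasRingHomProperty.iff_appLE (P := @Flat)]
  rintro ⟨V, hV⟩ ⟨W, hW⟩ e
  rcases isEmpty_or_nonempty V with hV0 | hV0
  · haveI : Subsingleton Γ(Z, W) := by
      have h0 : W = ⊥ := le_bot_iff.1 fun x hx => (hV0.false ⟨g x, e hx⟩).elim
      rw [h0]
      infer_instance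
    algebraize [(g.appLE V W e).hom]
    exact Module.Flat.of_free
  · haveI := isDedekindDomain_sections hY hV
    algebraize [(g.appLE V W e).hom]
    show Module.Flat _ _
    rw [IsDedekindDomain.flat_iff_torsion_eq_bot, eq_bot_iff]
    rintro b ⟨⟨a, ha⟩, hab⟩
    rw [Submodule.mem_bot]
    apply w.app_injective W
    rw [map_zero]
    have ha0 : a ≠ 0 := nonZeroDivisors.ne_zero ha
    have hη : genericPoint Y ∈ Y.basicOpen a := by
      have : (Y.basicOpen a) ≠ ⊥ := fun h => ha0 ((basicOpen_eq_bot_iff _).1 h)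
      exact ((genericPoint_spec Y).mem_open_set_iff (Y.basicOpen a).isOpen).2
        (by simpa using (Y.basicOpen a).ne_bot_iff_nonempty.1 this)
    have hu : IsUnit (w.app W (g.appLE V W e a)) := by
      apply Z'.toRingedSpace.isUnit_of_isUnit_germ
      intro x hx
      apply (Z'.mem_basicOpen _ x hx).1
      rw [← Scheme.preimage_basicOpen]
      show w x ∈ Z.basicOpen _
      rw [Scheme.basicOpen_appLE]
      exact ⟨hx, show g (w x) ∈ _ from hw x ▸ hη⟩
    apply hu.mul_right_eq_zero.1
    rw [← map_mul]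
    erw [show g.appLE V W e a * b = 0 from hab]
    rw [map_zero]

theorem std_of_flat_isPullback {X Y Z Z' : Scheme.{u}} [IsIntegral Y] (f : X ⟶ Y)
    (z' : Z' ⟶ f.fiber (genericPoint Y)) {z : Z ⟶ X} {w : Z' ⟶ Z} (hf : Flat (z ≫ f))
    (h : IsPullback w z' z (f.fiberι (genericPoint Y))) :
    IsSchemeTheoreticallyDominant w := by
  have h2 : IsPullback w (z' ≫ f.fiberToSpecResidueField (genericPoint Y)) (z ≫ f)
      (Y.fromSpecResidueField (genericPoint Y)) :=
    h.paste_vert (IsPullback.of_hasPullback _ _)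
  haveI := std_fromSpecResidueField_genericPoint Y
  haveI := isAffineHom_fromSpecResidueField_genericPoint Y
  exact .of_isPullback h2.flip

theorem exists_flat_closure {X Y : Scheme.{u}} [IsIntegral Y]
    [IsLocallyNoetherian Y]
    (hY : ∀ y : Y, IsRegularLocalRing (Y.presheaf.stalk y) ∧ ringKrullDim (Y.presheaf.stalk y) ≤ 1)
    (f : X ⟶ Y) {Z' : Scheme.{u}} (z' : Z' ⟶ f.fiber (genericPoint Y)) [IsClosedImmersion z'] :
    ∃ (Z : Scheme.{u}) (z : Z ⟶ X) (w : Z' ⟶ Z), IsClosedImmersion z ∧ Flat (z ≫ f) ∧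
        IsPullback w z' z (f.fiberι (genericPoint Y)) := by
  haveI : IsAffineHom (f.fiberι (genericPoint Y)) :=
    MorphismProperty.pullback_fst _ _ (isAffineHom_fromSpecResidueField_genericPoint Y)
  haveI : Flat (f.fiberι (genericPoint Y)) :=
    MorphismProperty.pullback_fst _ _ (flat_fromSpecResidueField_genericPoint Y)
  let j := z' ≫ f.fiberι (genericPoint Y)
  haveI : QuasiCompact j := inferInstanceAs (QuasiCompact (z' ≫ f.fiberι (genericPoint Y)))
  let z := j.imageι
  let w := j.toImage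
  haveI : IsSchemeTheoreticallyDominant w := std_toImage j
  have hwz : w ≫ z = z' ≫ f.fiberι (genericPoint Y) := j.toImage_imageι
  refine ⟨j.image, z, w, inferInstanceAs (IsClosedImmersion j.imageι),
    flat_of_std_genericFibre hY _ w fun x => ?_, ?_⟩
  · show f ((w ≫ z) x) = _
    rw [hwz]
    have := (f.range_fiberι (genericPoint Y)).le ⟨z' x, rfl⟩
    exact this
  · let v := pullback.lift w z' hwz
    have hv1 : v ≫ pullback.fst _ _ = w := pullback.lift_fst ..
    haveI : IsClosedImmersion z := inferInstanceAs (IsClosedImmersion j.imageι)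
    haveI : IsClosedImmersion (v ≫ pullback.snd _ _) := by
      rwa [pullback.lift_snd]
    haveI : IsClosedImmersion v := IsClosedImmersion.of_comp v (pullback.snd _ _)
    have hsq : IsPullback (𝟙 Z') v w (pullback.fst z (f.fiberι (genericPoint Y))) := by
      refine IsPullback.of_isLimit' ⟨by simp [hv1]⟩ (PullbackCone.IsLimit.mk _ (fun c => c.fst)
        (fun c => Category.comp_id _) (fun c => ?_) (fun c m h₁ _ => by simpa using h₁))
      rw [← cancel_mono (pullback.fst z (f.fiberι (genericPoint Y))), Category.assoc, hv1]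
      exact c.condition
    haveI : IsSchemeTheoreticallyDominant v := .of_isPullback hsq
    haveI : IsIso v := IsClosedImmersion.isIso_iff_ker_eq_bot.2 v.ker_eq_bot
    exact IsPullback.of_iso_pullback ⟨hwz⟩ (asIso v) hv1 (pullback.lift_snd ..)

theorem flat_closure_unique {X Y Z₁ Z₂ Z' : Scheme.{u}} [IsIntegral Y] (f : X ⟶ Y)
    (z' : Z' ⟶ f.fiber (genericPoint Y)) {z₁ : Z₁ ⟶ X} {z₂ : Z₂ ⟶ X} {w₁ : Z' ⟶ Z₁}
    {w₂ : Z' ⟶ Z₂} [IsClosedImmersion z₁] [IsClosedImmersion z₂]
    (hf₁ : Flat (z₁ ≫ f)) (hf₂ : Flat (z₂ ≫ f))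
    (h₁ : IsPullback w₁ z' z₁ (f.fiberι (genericPoint Y)))
    (h₂ : IsPullback w₂ z' z₂ (f.fiberι (genericPoint Y))) :
    ∃ e : Z₁ ≅ Z₂, e.hom ≫ z₂ = z₁ := by
  have key : ∀ {Z : Scheme.{u}} (z : Z ⟶ X) (w : Z' ⟶ Z), Flat (z ≫ f) →
      IsPullback w z' z (f.fiberι (genericPoint Y)) →
      z.ker = (z' ≫ f.fiberι (genericPoint Y)).ker := fun z w hf h => by
    haveI := std_of_flat_isPullback f z' hf h
    rw [← h.w, Scheme.Hom.ker_comp, w.ker_eq_bot, Scheme.IdealSheafData.map_bot]
  have hk : z₁.ker = z₂.ker := (key z₁ w₁ hf₁ h₁).trans (key z₂ w₂ hf₂ h₂).symm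
  refine ⟨⟨IsClosedImmersion.lift z₂ z₁ hk.ge, IsClosedImmersion.lift z₁ z₂ hk.le, ?_, ?_⟩,
    IsClosedImmersion.lift_fac _ _ _⟩
  · rw [← cancel_mono z₁]; simp
  · rw [← cancel_mono z₂]; simp

end Groth.Agent.H06FlatSub
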