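import Groth.Agent.H06FlatSub.Basic
import Groth.Agent.H24Quot.LocalSetup
import Groth.Agent.H8Props.FunDescent.Stalk
import Groth.Agent.H7Lim.ModExact
import Groth.Agent.H29Fitt.Sheaf
import Groth.Prelude.Def_FlatMod2
import Mathlib

/-! Flat quotients of quasi-coherent modules with prescribed generic fibre (EGA IV 2.8.1). -/

set_option autoImplicit false
set_option backward.isDefEq.respectTransparency false
set_option linter.style.haveILetI false
universe u
open CategoryTheory CategoryTheory.Limits AlgebraicGeometry TopologicalSpace Opposite TensorProduct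

namespace Groth.Agent.H06FlatSub

open H06Mod

/-- Germs of a pushforward along a preimmersion vanish where the original germs do. -/
theorem germ_push_eq_zero_iff {P Z : Scheme.{u}} (i : Z ⟶ P) [IsPreimmersion i] (T : Z.Modules)
    (v : Z) (U : P.Opens) (hU : i v ∈ U) (a : Γ(T, i ⁻¹ᵁ U)) :
    ((Scheme.Modules.pushforward i).obj T).presheaf.germ U (i v) hU a = 0 ↔
      T.presheaf.germ (i ⁻¹ᵁ U) v hU a = 0 := by
  constructor
  · intro h
    rw [← map_zero (((Scheme.Modules.pushforward i).obj T).presheaf.germ U (i v) hU).hom] at h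
    obtain ⟨W, hW, iW, jW, he⟩ := ((Scheme.Modules.pushforward i).obj T).presheaf.germ_eq (i v) hU hU _ _ h
    erw [map_zero] at he
    have := congrArg (T.presheaf.germ (i ⁻¹ᵁ W) v hW) he
    refine Eq.trans ?_ (this.trans (map_zero _))
    exact (TopCat.Presheaf.germ_res_apply T.presheaf ((TopologicalSpace.Opens.map i.base).map iW) v hW a).symm
  · intro h
    rw [← map_zero (T.presheaf.germ (i ⁻¹ᵁ U) v hU).hom] at h
    obtain ⟨W, hW, iW, jW, he⟩ := T.presheaf.germ_eq v hU hU _ _ h
    rw [map_zero] at he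
    obtain ⟨W₀, hW₀o, hW₀⟩ := i.isEmbedding.isInducing.isOpen_iff.1 W.2
    let W' : P.Opens := ⟨W₀, hW₀o⟩ ⊓ U
    have hv : i v ∈ W' := ⟨(show v ∈ i.base ⁻¹' W₀ from hW₀.symm ▸ hW), hU⟩
    have hle : i ⁻¹ᵁ W' ≤ W := fun y hy => (Set.ext_iff.1 hW₀ y).1 hy.1
    have h0 : ((Scheme.Modules.pushforward i).obj T).presheaf.map (homOfLE (inf_le_right : W' ≤ U)).op a = 0 := by
      show T.presheaf.map ((TopologicalSpace.Opens.map i.base).map (homOfLE (inf_le_right : W' ≤ U))).op a = 0
      rw [show ((TopologicalSpace.Opens.map i.base).map (homOfLE (inf_le_right : W' ≤ U))).op =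
        iW.op ≫ (homOfLE hle).op from Subsingleton.elim _ _, Functor.map_comp]
      show T.presheaf.map (homOfLE hle).op (T.presheaf.map iW.op a) = 0
      rw [he, map_zero]
    rw [← ((Scheme.Modules.pushforward i).obj T).presheaf.germ_res_apply (homOfLE (inf_le_right : W' ≤ U)) (i v) hv a,
      h0, map_zero]

/-- The stalk of the adjoint of a map out of a pullback along a preimmersion. -/
theorem stalkLin_adjoint_eq_zero_iff {P Z : Scheme.{u}} (i : Z ⟶ P) [IsPreimmersion i]
    {M : P.Modules} {T : Z.Modules} (r : (Scheme.Modules.pullback i).obj M ⟶ T) (v : Z)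
    (z : M.presheaf.stalk (i v)) :
    stalkLin ((Scheme.Modules.pullbackPushforwardAdjunction i).homEquiv M T r) (i v) z = 0 ↔
      stalkLin r v (pullStalk i M v z) = 0 := by
  obtain ⟨U, hU, m, rfl⟩ := M.presheaf.exists_germ_eq z
  rw [stalkLin_germ, pullStalk_germ, homEquiv_app]
  erw [stalkLin_germ]
  exact germ_push_eq_zero_iff i T v U hU _

/-- A surjective map on stalks makes the pullback of stalks surjective. -/
theorem pullStalk_surjective_of_preimmersion {P Z : Scheme.{u}} (i : Z ⟶ P) [IsPreimmersion i]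
    (M : P.Modules) (v : Z) : Function.Surjective (pullStalk i M v) := by
  intro z
  letI := stalkAlgebra i v
  obtain ⟨t, rfl⟩ := (pullStalkLin_bijective i M v).2 z
  induction t with
  | zero => exact ⟨0, by rw [map_zero, map_zero]⟩
  | add a b ha hb =>
    obtain ⟨a', ha'⟩ := ha
    obtain ⟨b', hb'⟩ := hb
    exact ⟨a' + b', by rw [map_add, map_add, ha', hb']⟩
  | tmul r m =>
    obtain ⟨r', rfl⟩ := i.stalkMap_surjective v r
    exact ⟨r' • m, by rw [pullStalkLin_tmul, pullStalk_smul]⟩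

section

variable {X Y : Scheme.{u}} (f : X ⟶ Y) [IsIntegral Y]

theorem fiberι_apply_eq (v : f.fiber (genericPoint Y)) :
    f (f.fiberι (genericPoint Y) v) = genericPoint Y :=
  (f.range_fiberι (genericPoint Y)).le ⟨v, rfl⟩

/-- Nonzero elements of the base act injectively on stalks of sheaves pushed from the generic
fibre. -/
theorem smul_eq_zero_push (G' : (f.fiber (genericPoint Y)).Modules) (x : X)
    {a : Y.presheaf.stalk (f x)} (ha : a ≠ 0)
    {z : ((Scheme.Modules.pushforward (f.fiberι (genericPoint Y))).obj G').presheaf.stalk x}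
    (h : (f.stalkMap x).hom a • z = 0) : z = 0 := by
  obtain ⟨V, hV, a, rfl⟩ := Y.presheaf.exists_germ_eq a
  obtain ⟨U, hU, t, rfl⟩ := ((Scheme.Modules.pushforward (f.fiberι (genericPoint Y))).obj G').presheaf.exists_germ_eq z
  have ha0 : a ≠ 0 := fun h0 => ha (by rw [h0, map_zero])
  let W : X.Opens := U ⊓ f ⁻¹ᵁ V
  have hW : x ∈ W := ⟨hU, hV⟩
  let b : Γ(X, W) := f.appLE V W inf_le_right a
  have hb : X.presheaf.germ W x hW b = (f.stalkMap x).hom (Y.presheaf.germ V (f x) hV a) := by
    show X.presheaf.germ W x hW ((f.app V ≫ X.presheaf.map _) a) = _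
    erw [Scheme.Hom.germ_stalkMap_apply]
    exact TopCat.Presheaf.germ_res_apply X.presheaf _ x hW _
  have h1 : ((Scheme.Modules.pushforward (f.fiberι (genericPoint Y))).obj G').presheaf.germ W x hW (b • ((Scheme.Modules.pushforward (f.fiberι (genericPoint Y))).obj G').presheaf.map (homOfLE inf_le_left).op t) = 0 := by
    rw [germ_smul, hb, TopCat.Presheaf.germ_res_apply]
    exact h
  rw [← map_zero (((Scheme.Modules.pushforward (f.fiberι (genericPoint Y))).obj G').presheaf.germ W x hW).hom] at h1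
  obtain ⟨W', hW', j₁, j₂, he⟩ := ((Scheme.Modules.pushforward (f.fiberι (genericPoint Y))).obj G').presheaf.germ_eq x hW hW _ _ h1
  erw [map_zero] at he
  rw [Scheme.Modules.map_smul] at he
  have hu : IsUnit ((f.fiberι (genericPoint Y)).app W' (X.presheaf.map j₁.op b)) := by
    apply (f.fiber (genericPoint Y)).toRingedSpace.isUnit_of_isUnit_germ
    intro v hv
    apply ((f.fiber (genericPoint Y)).mem_basicOpen _ v hv).1
    rw [← Scheme.preimage_basicOpen]
    show f.fiberι (genericPoint Y) v ∈ X.basicOpen _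
    rw [Scheme.basicOpen_res]
    refine ⟨hv, ?_⟩
    show f.fiberι (genericPoint Y) v ∈ X.basicOpen b
    rw [Scheme.basicOpen_appLE]
    refine ⟨j₁.le hv, ?_⟩
    show f (f.fiberι (genericPoint Y) v) ∈ Y.basicOpen a
    rw [fiberι_apply_eq]
    have hne : Y.basicOpen a ≠ ⊥ := fun h0 => ha0 ((basicOpen_eq_bot_iff _).1 h0)
    exact ((genericPoint_spec Y).mem_open_set_iff (Y.basicOpen a).isOpen).2
      (by simpa using (Y.basicOpen a).ne_bot_iff_nonempty.1 hne)
  have h2 : ((Scheme.Modules.pushforward (f.fiberι (genericPoint Y))).obj G').presheaf.map j₁.op (((Scheme.Modules.pushforward (f.fiberι (genericPoint Y))).obj G').presheaf.map (homOfLE inf_le_left).op t) = 0 := by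
    obtain ⟨c, hc⟩ := hu.exists_left_inv
    let t' : Γ(G', (f.fiberι (genericPoint Y)) ⁻¹ᵁ W') := ((Scheme.Modules.pushforward (f.fiberι (genericPoint Y))).obj G').presheaf.map j₁.op (((Scheme.Modules.pushforward (f.fiberι (genericPoint Y))).obj G').presheaf.map (homOfLE inf_le_left).op t)
    have he' : ((f.fiberι (genericPoint Y)).app W' (X.presheaf.map j₁.op b)) • t' = 0 := he
    show t' = 0
    rw [← one_smul Γ(f.fiber (genericPoint Y), (f.fiberι (genericPoint Y)) ⁻¹ᵁ W') t', ← hc, mul_smul, he', smul_zero]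
  rw [← TopCat.Presheaf.germ_res_apply ((Scheme.Modules.pushforward (f.fiberι (genericPoint Y))).obj G').presheaf (homOfLE (inf_le_left : W ≤ U)) x hW t,
    ← TopCat.Presheaf.germ_res_apply ((Scheme.Modules.pushforward (f.fiberι (genericPoint Y))).obj G').presheaf j₁ x hW', h2, map_zero]

/-- A flat quasi-coherent module has no sections vanishing on the generic fibre. -/
theorem germ_eq_zero_of_generic {G : X.Modules} (hG : Coh.IsQCoh G) (hfl : FlatMod.IsFlatOver f G)
    {V : Y.Opens} (hV : IsAffineOpen V) {U : X.Opens} (hU : IsAffineOpen U) (e : U ≤ f ⁻¹ᵁ V)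
    (s : Γ(G, U))
    (hs : ∀ y (hy : y ∈ U), f y = genericPoint Y → G.presheaf.germ U y hy s = 0)
    (x : X) (hx : x ∈ U) : G.presheaf.germ U x hx s = 0 := by
  let φ := (f.appLE V U e).hom
  let I := LinearMap.ker (LinearMap.toSpanSingleton Γ(X, U) Γ(G, U) s)
  haveI : Nonempty V := ⟨⟨f x, e hx⟩⟩
  have hI : ¬ Disjoint (I : Set Γ(X, U)) ((nonZeroDivisors Γ(Y, V)).map φ : Set Γ(X, U)) := by
    intro hd
    obtain ⟨P, hP, hle, hPd⟩ := Ideal.exists_le_prime_disjoint I _ hd
    have hy : hU.fromSpec ⟨P, hP⟩ ∈ U := hU.range_fromSpec.le ⟨⟨P, hP⟩, rfl⟩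
    let y : U := ⟨hU.fromSpec ⟨P, hP⟩, hy⟩
    have hprime : hU.primeIdealOf y = ⟨P, hP⟩ :=
      hU.fromSpec.isOpenEmbedding.injective (hU.fromSpec_primeIdealOf y)
    have hfy : f y.1 = genericPoint Y := by
      by_contra hne
      -- a nonzero function on `V` vanishing at `f y`
      have hfyV : f y.1 ∈ V := e hy
      let q := hV.primeIdealOf ⟨f y.1, hfyV⟩
      have hq : q.asIdeal ≠ ⊥ := by
        intro hq
        apply hne
        have h1 : q = hV.primeIdealOf ⟨genericPoint Y,
            ((genericPoint_spec Y).mem_open_set_iff V.isOpen).2 ⟨f y.1, by simp, hfyV⟩⟩ := by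
          rw [hV.primeIdealOf_genericPoint, genericPoint_eq_bot_of_affine]
          exact PrimeSpectrum.ext hq
        have h2 := congrArg hV.fromSpec h1
        rwa [hV.fromSpec_primeIdealOf, hV.fromSpec_primeIdealOf] at h2
      obtain ⟨a, ha, ha0⟩ := Submodule.exists_mem_ne_zero_of_ne_bot hq
      have hmem : φ a ∈ (hU.primeIdealOf y).asIdeal := by
        by_contra hna
        have h1 : y.1 ∈ X.basicOpen (φ a) := by
          rw [← hU.fromSpec_image_basicOpen]
          exact ⟨hU.primeIdealOf y, hna, hU.fromSpec_primeIdealOf y⟩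
        have h2 : f y.1 ∈ Y.basicOpen a := by
          rw [Scheme.basicOpen_appLE] at h1
          exact h1.2
        rw [← hV.fromSpec_image_basicOpen] at h2
        obtain ⟨r, hr, hr'⟩ := h2
        have : r = q := hV.fromSpec.isOpenEmbedding.injective
          (hr'.trans (hV.fromSpec_primeIdealOf ⟨f y.1, hfyV⟩).symm)
        exact hr (this ▸ ha)
      rw [hprime] at hmem
      exact Set.disjoint_left.1 hPd hmem ⟨a, mem_nonZeroDivisors_of_ne_zero ha0, rfl⟩
    letI := TopCat.Presheaf.algebra_section_stalk X.presheaf y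
    letI := Module.compHom (G.presheaf.stalk y.1) (algebraMap Γ(X, U) (X.presheaf.stalk y.1))
    haveI := H29Fitt.isLocalizedModule_germLin G hG hU y
    obtain ⟨⟨t, ht⟩, hts⟩ := (IsLocalizedModule.eq_zero_iff (hU.primeIdealOf y).asIdeal.primeCompl
      (H29Fitt.germLin G y) (m := s)).1 (hs y.1 hy hfy)
    rw [hprime] at ht
    exact ht (hle hts)
  obtain ⟨_, hI, a, ha, rfl⟩ := Set.not_disjoint_iff.1 hI
  have hab : φ a • s = 0 := hI
  have h1 : (f.stalkMap x).hom (Y.presheaf.germ V (f x) (e hx) a) • G.presheaf.germ U x hx s = 0 := by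
    have := congrArg (G.presheaf.germ U x hx) hab
    rw [germ_smul, map_zero] at this
    convert this using 2
    erw [Scheme.Hom.germ_stalkMap_apply]
    exact (TopCat.Presheaf.germ_res_apply X.presheaf _ x hx _).symm
  letI := FlatMod.moduleStalkOver f G x
  haveI : Module.Flat (Y.presheaf.stalk (f x)) (G.presheaf.stalk x) := hfl x
  have hne : Y.presheaf.germ V (f x) (e hx) a ≠ 0 := fun h0 =>
    nonZeroDivisors.ne_zero ha (germ_injective_of_isIntegral Y (f x) (e hx)
      (h0.trans (map_zero _).symm))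
  exact (Module.Flat.isSMulRegular_of_nonZeroDivisors (M := G.presheaf.stalk x)
    (mem_nonZeroDivisors_of_ne_zero hne)) (h1.trans (smul_zero _).symm)

theorem isFlatOver_of_mono_push [IsLocallyNoetherian Y]
    (hY : ∀ y : Y, IsRegularLocalRing (Y.presheaf.stalk y) ∧ ringKrullDim (Y.presheaf.stalk y) ≤ 1)
    {G : X.Modules} {G' : (f.fiber (genericPoint Y)).Modules}
    (ι : G ⟶ (Scheme.Modules.pushforward (f.fiberι (genericPoint Y))).obj G') [Mono ι] :
    FlatMod.IsFlatOver f G := by
  intro x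
  letI := FlatMod.moduleStalkOver f G x
  show Module.Flat (Y.presheaf.stalk (f x)) (G.presheaf.stalk x)
  haveI := (hY (f x)).1
  haveI : IsPrincipalIdealRing (Y.presheaf.stalk (f x)) := by
    by_cases hF : IsField (Y.presheaf.stalk (f x))
    · letI := hF.toField
      infer_instance
    · haveI := isDVR_of_regular (hY (f x)).2 hF
      infer_instance
  rw [Module.Flat.flat_iff_torsion_eq_bot_of_isBezout, eq_bot_iff]
  rintro z ⟨⟨a, ha⟩, haz⟩
  rw [Submodule.mem_bot]
  apply (H8Props.FunDescent.mono_iff ι).1 inferInstance x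
  rw [map_zero]
  refine smul_eq_zero_push f G' x (nonZeroDivisors.ne_zero ha) ?_
  rw [← map_smul]
  exact (congrArg _ (show (f.stalkMap x).hom a • z = 0 from haz)).trans (map_zero _)

theorem exists_flat_quotient [IsLocallyNoetherian Y]
    (hY : ∀ y : Y, IsRegularLocalRing (Y.presheaf.stalk y) ∧ ringKrullDim (Y.presheaf.stalk y) ≤ 1)
    (F : X.Modules) (hF : Coh.IsQCoh F) (G' : (f.fiber (genericPoint Y)).Modules)
    (hG' : Coh.IsQCoh G')
    (π : (Scheme.Modules.pullback (f.fiberι (genericPoint Y))).obj F ⟶ G') [Epi π] :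
    ∃ (G : X.Modules) (ρ : F ⟶ G)
        (e : (Scheme.Modules.pullback (f.fiberι (genericPoint Y))).obj G ≅ G'),
      Epi ρ ∧ Coh.IsQCoh G ∧ FlatMod.IsFlatOver f G ∧
        (Scheme.Modules.pullback (f.fiberι (genericPoint Y))).map ρ ≫ e.hom = π := by
  haveI : IsAffineHom (f.fiberι (genericPoint Y)) :=
    MorphismProperty.pullback_fst _ _ (isAffineHom_fromSpecResidueField_genericPoint Y)
  haveI : G'.IsQuasicoherent := hG'
  have hpush : Coh.IsQCoh ((Scheme.Modules.pushforward (f.fiberι (genericPoint Y))).obj G') :=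
    H10Coh.isQuasicoherent_pushforward (f.fiberι (genericPoint Y)) G'
  let adj := Scheme.Modules.pullbackPushforwardAdjunction (f.fiberι (genericPoint Y))
  let φ := adj.homEquiv F G' π
  let e₀ := (adj.homEquiv (image φ) G').symm (image.ι φ)
  have hcomp : (Scheme.Modules.pullback (f.fiberι (genericPoint Y))).map (factorThruImage φ) ≫ e₀ = π := by
    rw [← Adjunction.homEquiv_naturality_left_symm, image.fac]
    exact Equiv.symm_apply_apply _ π
  haveI : Epi e₀ := by
    haveI : Epi ((Scheme.Modules.pullback (f.fiberι (genericPoint Y))).map (factorThruImage φ) ≫ e₀) := by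
      rw [hcomp]; infer_instance
    exact epi_of_epi ((Scheme.Modules.pullback (f.fiberι (genericPoint Y))).map (factorThruImage φ)) e₀
  haveI : Mono e₀ := by
    refine (H8Props.FunDescent.mono_iff e₀).2 fun v => ?_
    rw [injective_iff_map_eq_zero]
    intro w hw
    obtain ⟨z, rfl⟩ := pullStalk_surjective_of_preimmersion (f.fiberι (genericPoint Y)) (image φ) v w
    have h := (stalkLin_adjoint_eq_zero_iff (f.fiberι (genericPoint Y)) e₀ v z).2 hw
    rw [Equiv.apply_symm_apply] at h
    rw [(H8Props.FunDescent.mono_iff (image.ι φ)).1 inferInstance ((f.fiberι (genericPoint Y)) v) (h.trans (map_zero _).symm),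
      map_zero]
  haveI : IsIso e₀ := isIso_of_mono_of_epi e₀
  exact ⟨image φ, factorThruImage φ, asIso e₀, inferInstance, H7Lim.ModExact.isQCoh_image φ hF hpush,
    isFlatOver_of_mono_push f hY (image.ι φ), hcomp⟩

theorem mono_adjoint {G : X.Modules} {G' : (f.fiber (genericPoint Y)).Modules}
    (hG : Coh.IsQCoh G) (hfl : FlatMod.IsFlatOver f G)
    (e : (Scheme.Modules.pullback (f.fiberι (genericPoint Y))).obj G ≅ G') :
    Mono ((Scheme.Modules.pullbackPushforwardAdjunction (f.fiberι (genericPoint Y))).homEquiv G G'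
      e.hom) := by
  haveI : Flat (f.fiberι (genericPoint Y)) :=
    MorphismProperty.pullback_fst _ _ (flat_fromSpecResidueField_genericPoint Y)
  refine (H8Props.FunDescent.mono_iff _).2 fun x => ?_
  rw [injective_iff_map_eq_zero]
  intro z hz
  obtain ⟨W, hxW, m, rfl⟩ := G.presheaf.exists_germ_eq z
  rw [stalkLin_germ, ← map_zero (((Scheme.Modules.pushforward (f.fiberι (genericPoint Y))).obj G').presheaf.germ W x hxW).hom] at hz
  obtain ⟨W', hxW', j₁, j₂, he⟩ :=
    ((Scheme.Modules.pushforward (f.fiberι (genericPoint Y))).obj G').presheaf.germ_eq x hxW hxW _ _ hz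
  erw [map_zero] at he
  obtain ⟨_, ⟨V, hV, rfl⟩, hxV, -⟩ :=
    Y.isBasis_affineOpens.exists_subset_of_mem_open (Set.mem_univ (f x)) isOpen_univ
  obtain ⟨_, ⟨U, hU, rfl⟩, hxU, hUle⟩ := X.isBasis_affineOpens.exists_subset_of_mem_open
    (show x ∈ W' ⊓ f ⁻¹ᵁ V from ⟨hxW', hxV⟩) (W' ⊓ f ⁻¹ᵁ V).isOpen
  have hUW : U ≤ W := fun y hy => j₁.le (hUle hy).1
  rw [← TopCat.Presheaf.germ_res_apply G.presheaf (homOfLE hUW) x hxU]
  refine germ_eq_zero_of_generic f hG hfl hV hU (fun y hy => (hUle hy).2) _ ?_ x hxU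
  intro y hy hfy
  obtain ⟨v, rfl⟩ : y ∈ Set.range (f.fiberι (genericPoint Y)) := by
    rw [f.range_fiberι]
    exact hfy
  rw [TopCat.Presheaf.germ_res_apply]
  apply pullStalk_injective (f.fiberι (genericPoint Y)) G v
  apply (H8Props.FunDescent.isIso_iff e.hom).1 inferInstance v |>.1
  rw [map_zero, map_zero]
  refine (stalkLin_adjoint_eq_zero_iff (f.fiberι (genericPoint Y)) e.hom v _).1 ?_
  rw [stalkLin_germ]
  have hvW' : (f.fiberι (genericPoint Y)) v ∈ W' := (hUle hy).1
  refine (TopCat.Presheaf.germ_res_apply _ j₁ ((f.fiberι (genericPoint Y)) v) hvW' (((Scheme.Modules.pullbackPushforwardAdjunction (f.fiberι (genericPoint Y))).homEquiv G G' e.hom).app W m)).symm.trans ?_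
  rw [he, map_zero]

theorem flat_quotient_unique {F G₁ G₂ : X.Modules} {G' : (f.fiber (genericPoint Y)).Modules}
    {π : (Scheme.Modules.pullback (f.fiberι (genericPoint Y))).obj F ⟶ G'}
    {ρ₁ : F ⟶ G₁} {ρ₂ : F ⟶ G₂}
    (e₁ : (Scheme.Modules.pullback (f.fiberι (genericPoint Y))).obj G₁ ≅ G')
    (e₂ : (Scheme.Modules.pullback (f.fiberι (genericPoint Y))).obj G₂ ≅ G')
    [Epi ρ₁] [Epi ρ₂] (hq₁ : Coh.IsQCoh G₁) (hq₂ : Coh.IsQCoh G₂)
    (hf₁ : FlatMod.IsFlatOver f G₁) (hf₂ : FlatMod.IsFlatOver f G₂)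
    (h₁ : (Scheme.Modules.pullback (f.fiberι (genericPoint Y))).map ρ₁ ≫ e₁.hom = π)
    (h₂ : (Scheme.Modules.pullback (f.fiberι (genericPoint Y))).map ρ₂ ≫ e₂.hom = π) :
    ∃ e : G₁ ≅ G₂, ρ₁ ≫ e.hom = ρ₂ := by
  set adj := Scheme.Modules.pullbackPushforwardAdjunction (f.fiberι (genericPoint Y))
  haveI := mono_adjoint f hq₁ hf₁ e₁
  haveI := mono_adjoint f hq₂ hf₂ e₂
  set m₁ := adj.homEquiv G₁ G' e₁.hom
  set m₂ := adj.homEquiv G₂ G' e₂.hom
  have k₁ : ρ₁ ≫ m₁ = adj.homEquiv F G' π := by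
    rw [← h₁, Adjunction.homEquiv_naturality_left]
  have k₂ : ρ₂ ≫ m₂ = adj.homEquiv F G' π := by
    rw [← h₂, Adjunction.homEquiv_naturality_left]
  haveI := strongEpi_of_epi ρ₁
  haveI := strongEpi_of_epi ρ₂
  let a₁ := image.isoStrongEpiMono ρ₁ m₁ k₁
  let a₂ := image.isoStrongEpiMono ρ₂ m₂ k₂
  refine ⟨a₁ ≪≫ a₂.symm, ?_⟩
  rw [← cancel_mono m₂, k₂, Category.assoc, Iso.trans_hom, Iso.symm_hom, Category.assoc]
  rw [image.isoStrongEpiMono_inv_comp_mono, image.isoStrongEpiMono_hom_comp_ι, k₁]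

end

end Groth.Agent.H06FlatSub
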